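import Groth.Agent.GaExt.Lift
import Groth.Agent.BigSiteLib.Shriek
import Groth.Agent.ParaFLib.Unit

/-!
First cohomology of a direct image on big sites injects into the cohomology upstairs.
-/

set_option autoImplicit false
set_option backward.isDefEq.respectTransparency false
set_option backward.isDefEq.respectTransparency.types false
set_option backward.defeqAttrib.useBackward true
set_option linter.style.haveILetI false

universe u

open CategoryTheory CategoryTheory.Limits CategoryTheory.Abelian AlgebraicGeometry Opposite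

noncomputable section

namespace Groth.Agent.PushH1

local notation "K" => Scheme.fppfPrecoverage

theorem subsingleton_H1_pushBig {S T : Scheme.{u}} (f : T ⟶ S) (F : BigSite.Ab Scheme.fppfPrecoverage T)
    (h : Subsingleton (BigSite.H Scheme.fppfPrecoverage T F 1)) :
    Subsingleton (BigSite.H Scheme.fppfPrecoverage S
      ((BigSite.pushBig Scheme.fppfPrecoverage f AddCommGrpCat.{u + 1}).obj F) 1) := by
  let R := BigSite.pushBig Scheme.fppfPrecoverage f AddCommGrpCat.{u + 1}
  haveI : R.IsRightAdjoint := (BigSite.bigAdj Scheme.fppfPrecoverage f AddCommGrpCat.{u + 1}).isRightAdjoint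
  have h0 : (ShortComplex.mk (Injective.ι F) (cokernel.π (Injective.ι F)) (cokernel.condition _)).ShortExact :=
    { exact := ShortComplex.exact_cokernel _ }
  haveI : Mono (R.map (Injective.ι F)) := inferInstance
  haveI : Injective (R.obj (Injective.under F)) :=
    Injective.injective_of_adjoint (BigSite.bigAdj Scheme.fppfPrecoverage f AddCommGrpCat.{u + 1}) _
  have h1 : (ShortComplex.mk (R.map (Injective.ι F)) (cokernel.π (R.map (Injective.ι F)))
      (cokernel.condition _)).ShortExact :=
    { exact := ShortComplex.exact_cokernel _ }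
  let m : cokernel (R.map (Injective.ι F)) ⟶ R.obj (cokernel (Injective.ι F)) :=
    cokernel.desc _ (R.map (cokernel.π (Injective.ι F))) (by rw [← R.map_comp, cokernel.condition, R.map_zero])
  haveI : Mono m :=
    ((ShortComplex.mk (R.map (Injective.ι F)) (R.map (cokernel.π (Injective.ι F)))
      (by rw [← R.map_comp, cokernel.condition, R.map_zero])).exact_iff_mono_cokernel_desc).1
      (h0.exact.map_of_mono_of_preservesKernel R inferInstance inferInstance)
  have hS : IsTerminal (Over.mk (𝟙 S)) := Over.mkIdTerminal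
  refine subsingleton_of_forall_eq 0 fun x => ?_
  obtain ⟨y, rfl⟩ := Ext.covariant_sequence_exact₁ _ h1 x (Ext.eq_zero_of_injective _) (zero_add 1)
  let g := Sheaf.H.equiv₀ _ hS y
  let P := (Over.pullback f).obj (Over.mk (𝟙 S))
  have hP : IsTerminal P := (IsTerminal.isTerminalObj (Over.pullback f) _ hS)
  let e : P ≅ Over.mk (𝟙 T) := hP.uniqueUpToIso Over.mkIdTerminal
  let q : BigSite.sect Scheme.fppfPrecoverage (cokernel (Injective.ι F)) P := (m.hom.app (op (Over.mk (𝟙 S)))).hom g
  obtain ⟨s, hs⟩ := GaExt.exists_lift_top h0 h (((cokernel (Injective.ι F)).obj.map e.inv.op).hom q)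
  let t : BigSite.sect Scheme.fppfPrecoverage (R.obj (Injective.under F)) (Over.mk (𝟙 S)) :=
    ((Injective.under F).obj.map e.hom.op).hom s
  have ht : ((R.map (cokernel.π (Injective.ι F))).hom.app (op (Over.mk (𝟙 S)))).hom t = q := by
    refine (ConcreteCategory.congr_hom ((cokernel.π (Injective.ι F)).hom.naturality e.hom.op) s).trans ?_
    refine (congrArg ((cokernel (Injective.ι F)).obj.map e.hom.op).hom hs).trans ?_
    rw [← ConcreteCategory.comp_apply, ← CategoryTheory.Functor.map_comp, ← op_comp, e.hom_inv_id, CategoryTheory.op_id, CategoryTheory.Functor.map_id]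
    rfl
  have hct : ((cokernel.π (R.map (Injective.ι F))).hom.app (op (Over.mk (𝟙 S)))).hom t = g := by
    haveI : Mono m.hom := (inferInstance : Mono ((sheafToPresheaf _ _).map m))
    haveI : Mono (m.hom.app (op (Over.mk (𝟙 S)))) :=
      (inferInstance : Mono (((evaluation _ _).obj (op (Over.mk (𝟙 S)))).map m.hom))
    refine (AddCommGrpCat.mono_iff_injective (m.hom.app (op (Over.mk (𝟙 S))))).1 inferInstance (Eq.trans ?_ ht)
    rw [← ConcreteCategory.comp_apply]
    exact ConcreteCategory.congr_hom (congrArg (fun w => w.hom.app (op (Over.mk (𝟙 S))))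
      (cokernel.π_desc (R.map (Injective.ι F)) _ _)) t
  have hy : y = Ext.comp ((Sheaf.H.equiv₀ _ hS).symm t) (Ext.mk₀ (cokernel.π (R.map (Injective.ι F)))) (add_zero 0) := by
    apply (Sheaf.H.equiv₀ _ hS).injective
    refine Eq.trans hct.symm ?_
    refine Eq.trans ?_ (Sheaf.H.equiv₀_naturality hS (cokernel.π (R.map (Injective.ι F))) _)
    rw [AddEquiv.apply_symm_apply]
  rw [hy, Ext.comp_assoc _ _ _ (add_zero 0) (zero_add 1) (by omega), h1.comp_extClass, Ext.comp_zero]

end Groth.Agent.PushH1

namespace Groth.Agent.PushH1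

/-- Invertible modules on a one-point scheme are trivial. -/
theorem invertible_trivial_of_subsingleton {T : Scheme.{u}} [Subsingleton T] [Nonempty T] (L : T.Modules)
    (hL : PicF.IsInvertible L) : Nonempty (L ≅ Coh.structureModule T) := by
  obtain ⟨x⟩ := ‹Nonempty T›
  obtain ⟨U, hxU, ⟨e⟩⟩ := hL x
  have hU : U = ⊤ := top_unique fun y _ => (Subsingleton.elim y x) ▸ hxU
  subst hU
  let j := T.topIso.inv
  have hj : 𝟙 T = j ≫ (⊤ : T.Opens).ι := by simp [j, ← Scheme.topIso_hom]
  obtain ⟨e'⟩ := ParaFLib.nonempty_restrictUnitIso j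
  exact ⟨(Scheme.Modules.restrictFunctorId.app L).symm ≪≫ (Scheme.Modules.restrictFunctorCongr hj).app L ≪≫
    (Scheme.Modules.restrictFunctorComp j _).app L ≪≫ (Scheme.Modules.restrictFunctor j).mapIso e ≪≫ e'⟩

end Groth.Agent.PushH1
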